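import Cfsg.Agent.Coset.Blocks
import Cfsg.Agent.Coset.Table
import Mathlib.Tactic.IntervalCases
import Cfsg.Agent.Coset.Fi22Seven.BData

set_option autoImplicit false
set_option maxRecDepth 100000
set_option Elab.async false

namespace CfsgLib.Coset.Fi22Seven.B

theorem hR : checkRules lrels subs R = true := by decide +kernel
theorem hdefs : checkDefs E 8 15 24883 = true := by decide +kernel
theorem hsteps0 : belowBlock 7 872 (chunkAt E id R 8 24883 C) 0 = true := by decide +kernel
theorem hsteps1 : belowBlock 7 872 (chunkAt E id R 8 24883 C) 1 = true := by decide +kernel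
theorem hsteps2 : belowBlock 7 872 (chunkAt E id R 8 24883 C) 2 = true := by decide +kernel
theorem hsteps3 : belowBlock 7 872 (chunkAt E id R 8 24883 C) 3 = true := by decide +kernel
theorem hsteps4 : belowBlock 7 872 (chunkAt E id R 8 24883 C) 4 = true := by decide +kernel
theorem hsteps5 : belowBlock 7 872 (chunkAt E id R 8 24883 C) 5 = true := by decide +kernel
theorem hsteps6 : belowBlock 7 872 (chunkAt E id R 8 24883 C) 6 = true := by decide +kernel
theorem hsteps7 : belowBlock 7 872 (chunkAt E id R 8 24883 C) 7 = true := by decide +kernel
theorem hsteps : checkChunks E id R 8 (7 + 3) 24883 872 C = true :=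
  checkChunks_of_blocks (by decide +kernel) fun b hb => by
    have : b < 8 := hb
    interval_cases b
    · exact hsteps0
    · exact hsteps1
    · exact hsteps2
    · exact hsteps3
    · exact hsteps4
    · exact hsteps5
    · exact hsteps6
    · exact hsteps7
theorem htable : checkTable E id (24883 + chunk * 872) 9477 8 14 3 Rep Ref Tb = true := by decide +kernel

end CfsgLib.Coset.Fi22Seven.B
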