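import Cfsg.Agent.Coset.Blocks
import Cfsg.Agent.Coset.Table
import Cfsg.Agent.Coset.Fi22Seven.CData

set_option autoImplicit false
set_option maxRecDepth 100000
set_option Elab.async false

namespace CfsgLib.Coset.Fi22Seven.C

theorem hR : checkRules lrels subs R = true := by decide +kernel
theorem hdefs : checkDefs E 7 5 28 = true := by decide +kernel
theorem hsteps : checkChunks E id R 7 1 28 2 C = true := by decide +kernel
theorem htable : checkTable E id (28 + chunk * 2) 28 7 5 3 Rep Ref Tb = true := by decide +kernel

end CfsgLib.Coset.Fi22Seven.C
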