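import Cfsg.Agent.Coset.Blocks
import Cfsg.Agent.Coset.Table
import Cfsg.Agent.Coset.Fi22Seven.EData

set_option autoImplicit false
set_option maxRecDepth 100000
set_option Elab.async false

namespace CfsgLib.Coset.Fi22Seven.E

theorem hR : checkRules lrels subs R = true := by decide +kernel
theorem hdefs : checkDefs E 5 11 1920 = true := by decide +kernel
theorem hsteps : checkChunks E id R 5 6 1920 46 C = true := by decide +kernel
theorem htable : checkTable E id (1920 + chunk * 46) 1920 5 11 3 Rep Ref Tb = true := by decide +kernel

end CfsgLib.Coset.Fi22Seven.E
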