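import Cfsg.Agent.Coset.Chain
import Cfsg.Agent.Coset.Fi22Seven.A
import Cfsg.Agent.Coset.Fi22Seven.B
import Cfsg.Agent.Coset.Fi22Seven.C
import Cfsg.Agent.Coset.Fi22Seven.D
import Cfsg.Agent.Coset.Fi22Seven.E

/-! Nine involutions on the diagram `Y₃₃₂` with two seven-point relators: an upper bound on the order. -/

set_option autoImplicit false
set_option maxRecDepth 100000
set_option Elab.async false

namespace CfsgLib.Coset.Fi22Seven

/-- The edges of the diagram. -/
def adjB (i j : Nat) : Bool :=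
  [(0, 1), (1, 2), (2, 3), (3, 4), (4, 5), (5, 6), (3, 7), (7, 8)].contains (i, j) ||
    [(0, 1), (1, 2), (2, 3), (3, 4), (4, 5), (5, 6), (3, 7), (7, 8)].contains (j, i)

/-- The Coxeter relator of a pair. -/
def pairW (i j : Nat) : List Nat :=
  if i = j then [i, i] else if adjB i j then [i, j, i, j, i, j] else [i, j, i, j]

/-- The first relator. -/
def q3 : List Nat := [0, 2, 4, 7, 8, 7, 3, 4, 2, 3, 7, 1, 2, 3, 4, 8, 7, 3, 2, 1, 0, 1, 2, 3, 7, 8, 4, 3, 2, 1, 7,
  3, 2, 4, 3, 7, 8, 3, 4, 7, 3, 2, 3, 7, 4, 3, 1, 2, 3, 4, 7, 3, 2, 1, 0, 1, 2, 3, 7, 4, 3, 2, 1]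

/-- The reflection of the diagram. -/
def mir (i : Nat) : Nat := [6, 5, 4, 3, 2, 1, 0, 7, 8].getD i i

/-- The relators. -/
def rels9 : List (List Nat) :=
  ((List.range 9).flatMap fun i => (List.range 9).map fun j => pairW i j) ++ [q3, q3.map mir]

theorem lrels_sub : ∀ w ∈ A.lrels, w ∈ rels9 := by decide +kernel

variable {X : Type*} [Group X] {L : List X}

theorem level {S S' : List Nat} {rs subs : List (List Nat)} {E Rep Tb : Nat → Nat}
    {R : Tr (List Nat × Nat)} {d d' N nC n dn dk : Nat} {C Ref : Nat → Nat} (k : Nat)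
    (hlen : L.length = 9) (hrel : ∀ w ∈ A.lrels, ev L w = 1) (hsq : ∀ x, fl L x * fl L x = 1)
    (hk : S.length = k)
    (hc : checkLevel A.lrels 9 S S' rs subs = true)
    (hR : checkRules rs subs R = true) (hd : checkDefs E k d' N = true)
    (hs : checkChunks E id R k d N nC C = true)
    (ht : checkTable E id (N + chunk * nC) n k dn dk Rep Ref Tb = true) :
    TableOK (lv L S) (genBy L S') E id n Rep Tb := by
  have hl : (lv L S).length = k := by simp [lv, hk]
  exact tableOK_of_check (inv_lv hsq S) hR (hl.symm ▸ hd) (hl.symm ▸ hs) (hl.symm ▸ ht)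
    (level_rels hlen hc hrel) (level_subs hlen hc)

theorem card_le (hlen : L.length = 9) (hrel : ∀ w ∈ rels9, ev L w = 1) (hsq : ∀ x, fl L x * fl L x = 1) :
    Finite (genBy L [0, 1, 2, 3, 4, 5, 6, 7, 8]) ∧
      Nat.card (genBy L [0, 1, 2, 3, 4, 5, 6, 7, 8]) ≤ 3 * 64561751654400 := by
  have hrel' : ∀ w ∈ A.lrels, ev L w = 1 := fun w hw => hrel w (lrels_sub w hw)
  have c0 : checkLevel A.lrels 9 [0, 1, 2, 3, 4, 5, 6, 7, 8] [1, 2, 3, 4, 5, 6, 7, 8] A.lrels A.subs = true := by
    decide +kernel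
  have c1 : checkLevel A.lrels 9 [1, 2, 3, 4, 5, 6, 7, 8] [2, 3, 4, 5, 6, 7, 8] B.lrels B.subs = true := by
    decide +kernel
  have c2 : checkLevel A.lrels 9 [2, 3, 4, 5, 6, 7, 8] [2, 3, 4, 5, 7, 8] C.lrels C.subs = true := by
    decide +kernel
  have c3 : checkLevel A.lrels 9 [2, 3, 4, 5, 7, 8] [2, 3, 4, 5, 7] D.lrels D.subs = true := by decide +kernel
  have c4 : checkLevel A.lrels 9 [2, 3, 4, 5, 7] [] E.lrels E.subs = true := by decide +kernel
  have h := level_card (level 9 hlen hrel' hsq rfl c0 A.hR A.hdefs A.hsteps A.htable) (by decide) c0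
    (level_card (level 8 hlen hrel' hsq rfl c1 B.hR B.hdefs B.hsteps B.htable) (by decide) c1
      (level_card (level 7 hlen hrel' hsq rfl c2 C.hR C.hdefs C.hsteps C.htable) (by decide) c2
        (level_card (level 6 hlen hrel' hsq rfl c3 D.hR D.hdefs D.hsteps D.htable) (by decide) c3
          (level_card (level 5 hlen hrel' hsq rfl c4 E.hR E.hdefs E.hsteps E.htable) (by decide) c4
            card_genBy_nil))))
  exact ⟨h.1, h.2.trans (by norm_num)⟩

end CfsgLib.Coset.Fi22Seven
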